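import Cfsg.Agent.H382.JM.L52Cent
import Cfsg.Agent.H382.JM.L52Gens
import Cfsg.Agent.H860.JM.Defs
import Cfsg.Agent.H860.JM.Cj
import Cfsg.Agent.H859.BigNum

/-!
# S5580, Part III: no maximal subgroup of `J4` has socle `L₅(2)` (helper382)

A subgroup `L₅(2)` of `J4` is conjugate to a subgroup containing `U`, `f`, `c` with `c` one of two elements of order 3
commuting with `f`, and normalizing the elementary abelian group `X` of order `2^10`.  If it is the socle of a maximal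
subgroup `M`, then `M` is larger, so that it contains the involution `j0` inverting `U`, a contradiction.
-/

set_option autoImplicit false

namespace Cfsg.Agent.H382.JM.L52

open Cfsg Subgroup
open Cfsg.Agent.Lib.F2MatGroup
open Cfsg.Agent.H859
open Cfsg.Agent.H860.JM (NL Excl cj mem_cj cj_eq_iff card_cj normalizer_cj)
open Cfsg.Agent.H382.JM.L52Data

local notation "𝒢" => Cfsg.Spor.J4

instance simple_J4 : IsSimpleGroup 𝒢 := Cfsg.Agent.S1703.result.1
instance fact31 : Fact (Nat.Prime 31) := ⟨by norm_num⟩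
instance fact5 : Fact (Nat.Prime 5) := ⟨by norm_num⟩

/-! ### the group of order 155 -/

theorem orderOf_U : orderOf U = 31 := orderOf_eq_prime U_pow U_ne

theorem U_mod {a b : ℕ} (hab : a % 31 = b % 31) : U ^ a = U ^ b := by
  rw [← Nat.div_add_mod a 31, ← Nat.div_add_mod b 31, hab, pow_add, pow_add, pow_mul, pow_mul, U_pow,
    one_pow, one_pow]

theorem Up_f (n : ℕ) : U ^ n * f = f * U ^ (2 * n) := by
  induction n with
  | zero => simp
  | succ n ih =>
    rw [pow_succ, mul_assoc, U_f, ← mul_assoc, ih, mul_assoc, ← pow_add]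
    rfl

theorem f_Up (n : ℕ) : f * U ^ n = U ^ (16 * n) * f := by
  rw [Up_f]
  congr 1
  exact U_mod (by omega)

theorem Up_fp (n k : ℕ) : U ^ n * f ^ k = f ^ k * U ^ (2 ^ k * n) := by
  induction k with
  | zero => simp
  | succ k ih =>
    rw [pow_succ, ← mul_assoc, ih, mul_assoc, Up_f, ← mul_assoc, ← mul_assoc, pow_succ 2 k]
    congr 2
    ring

theorem j0_inv : j0⁻¹ = j0 := inv_eq_of_mul_eq_one_right j0_j0

theorem j0_U' : j0 * U * j0⁻¹ = U⁻¹ := by
  rw [j0_inv]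
  exact eq_inv_of_mul_eq_one_left j0_U

theorem j0_Up (n : ℕ) : j0 * U ^ n * j0⁻¹ = U ^ (30 * n) := by
  rw [← conj_pow, j0_U', inv_pow, inv_eq_iff_mul_eq_one, ← pow_add]
  rw [U_mod (b := 0) (by omega), pow_zero]

theorem j0_f' : j0 * f * j0⁻¹ = f := by rw [j0_f, mul_inv_cancel_right]

theorem card_zU : Nat.card (zpowers U) = 31 := by rw [Nat.card_zpowers, orderOf_U]

theorem isPGroup_zU : IsPGroup 31 (zpowers U) := Cfsg.Agent.H858.NormC.isPGroup_of_card card_zU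

theorem not_dvd_zU : ¬ 31 ∣ (zpowers U).index :=
  Cfsg.Agent.H858.NormC.not_dvd_index card_zU (BigCent.sq_not_dvd (by simp))

theorem mem_zU {x : 𝒢} (hx : x ∈ zpowers U) : ∃ n < 31, U ^ n = x := by
  classical
  rw [mem_zpowers_iff_mem_range_orderOf, Finset.mem_image] at hx
  obtain ⟨n, hn, hn2⟩ := hx
  rw [orderOf_U, Finset.mem_range] at hn
  exact ⟨n, hn, hn2⟩

/-- the elements commuting with `U` -/
theorem cent_U {c : 𝒢} (hc : c * U = U * c) : ∃ n : ℕ, c = U ^ n := by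
  have h1 := PrimeSub.centralizer_eq (by norm_num) card_zU (BigNum.data31 card_zU).1
  have h2 : c ∈ centralizer (zpowers U : Set 𝒢) := by
    rw [mem_centralizer_iff]
    intro y hy
    obtain ⟨n, rfl⟩ := hy
    exact ((Commute.zpow_right (show Commute c U from hc) n).eq).symm
  rw [h1] at h2
  obtain ⟨n, -, hn⟩ := mem_zU h2
  exact ⟨n, hn.symm⟩

theorem inv_mod : ∀ m < 31, m ≠ 0 → ∃ n < 31, m * n % 31 = 1 := by decide +kernel

theorem step1 {a : 𝒢} (h31 : a ^ 31 = 1) (h1 : a ≠ 1) : ∃ g : 𝒢, ∃ m < 31, m ≠ 0 ∧ g * a * g⁻¹ = U ^ m := by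
  obtain ⟨g, hg⟩ := SylEleven.exists_conj_mem isPGroup_zU not_dvd_zU (g := a) ⟨1, by rw [pow_one, h31]⟩
  obtain ⟨m, hm, hm2⟩ := mem_zU hg
  refine ⟨g, m, hm, ?_, hm2.symm⟩
  rintro rfl
  apply h1
  rw [pow_zero, eq_comm, mul_inv_eq_one] at hm2
  exact mul_left_cancel (hm2.trans (mul_one g).symm)

theorem step2 {m : ℕ} (hm : m < 31) (hm0 : m ≠ 0) {b : 𝒢} (hb : U ^ m * b = b * (U ^ m) ^ 2) :
    ∃ n : ℕ, U ^ n * b * (U ^ n)⁻¹ = f := by
  have h0 : f⁻¹ * U ^ m = U ^ (2 * m) * f⁻¹ := by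
    rw [inv_mul_eq_iff_eq_mul, ← mul_assoc, ← Up_f, mul_inv_cancel_right]
  have h1 : Commute (b * f⁻¹) (U ^ m) := by
    show b * f⁻¹ * U ^ m = U ^ m * (b * f⁻¹)
    rw [mul_assoc, h0, ← mul_assoc, ← mul_assoc, hb, ← pow_mul, mul_comm m 2]
  obtain ⟨k, -, hk⟩ := inv_mod m hm hm0
  have h2 : Commute (b * f⁻¹) U := by
    have h3 := h1.pow_right k
    rwa [← pow_mul, U_mod (b := 1) (by rw [hk]), pow_one] at h3
  obtain ⟨n, hn⟩ := cent_U h2.eq
  have h3 : b = U ^ n * f := by rw [← hn]; group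
  refine ⟨29 * n, ?_⟩
  rw [mul_inv_eq_iff_eq_mul, h3, f_Up, ← mul_assoc, ← pow_add]
  congr 1
  exact U_mod (by omega)

theorem red : ∀ m < 31, m ≠ 0 → ∃ k < 5, ∃ r < 6, 2 ^ k * (m * 11) % 31 = er r % 31 := by decide +kernel

theorem exc_fst : ∀ p ∈ exc, p.1 ∈ [0, 13, 60, 115, 143, 147, 196, 222] := by decide +kernel

theorem step3 {m i : ℕ} (hm : m < 31) (hm0 : m ≠ 0) (hi : i < 224) (hci : c i * f = f * c i)
    (h4 : ((U ^ m) ^ 11 * c i) ^ 4 = 1) : i ∈ [0, 13, 60, 115, 143, 147, 196, 222] := by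
  obtain ⟨k, -, r, hr, hkr⟩ := red m hm hm0
  by_contra hne
  apply c_mem hi r hr (fun hx => hne (exc_fst _ hx))
  have h1 : (f ^ k)⁻¹ * ((U ^ m) ^ 11 * c i) * f ^ k = U ^ er r * c i := by
    have h2 : c i * f ^ k = f ^ k * c i := ((show Commute (c i) f from hci).pow_right k).eq
    rw [mul_assoc, mul_assoc, h2, ← mul_assoc ((U ^ m) ^ 11), ← pow_mul, Up_fp, mul_assoc, inv_mul_cancel_left,
      U_mod hkr]
  have h2 : ((f ^ k)⁻¹ * ((U ^ m) ^ 11 * c i) * f ^ k) ^ 4 = 1 := by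
    have h3 := conj_pow (a := (f ^ k)⁻¹) (b := (U ^ m) ^ 11 * c i) (i := 4)
    rw [inv_inv] at h3
    rw [h3, h4]; group
  rw [← h1, h2]

/-! ### the group `X` -/

/-- the elementary abelian group -/
def X : Subgroup 𝒢 := closure {x | ∃ i < 10, x = z i}

theorem z_mem {i : ℕ} (hi : i < 10) : z i ∈ X := subset_closure ⟨i, hi, rfl⟩

theorem X_comm {x y : 𝒢} (hx : x ∈ X) (hy : y ∈ X) : x * y = y * x := by
  have h1 : ∀ x ∈ X, ∀ i < 10, z i * x = x * z i := by
    intro x hx i hi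
    have h2 : X ≤ centralizer {z i} := by
      rw [X, closure_le]
      rintro _ ⟨k, hk, rfl⟩
      rw [SetLike.mem_coe, mem_centralizer_singleton_iff]
      exact z_comm hk hi
    exact (mem_centralizer_singleton_iff.1 (h2 hx)).symm
  have h2 : X ≤ centralizer {x} := by
    rw [X, closure_le]
    rintro _ ⟨k, hk, rfl⟩
    rw [SetLike.mem_coe, mem_centralizer_singleton_iff]
    exact h1 x hx k hk
  exact (mem_centralizer_singleton_iff.1 (h2 hy)).symm

theorem ev_mem {w : List ℕ} (hw : ∀ k ∈ w, k < 10) : evG L w ∈ X := by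
  induction w with
  | nil => exact X.one_mem
  | cons k w ih =>
    rw [evG_cons]
    refine X.mul_mem ?_ (ih fun i hi => hw i (List.mem_cons_of_mem _ hi))
    have hk : k < 10 := hw k List.mem_cons_self
    have h1 : getG L k = z (9 - k) := by
      unfold z
      congr 1
      unfold iz
      omega
    rw [h1]
    exact z_mem (by omega)

theorem mem_norm {g : 𝒢} {t : List (List ℕ)} (h1 : ∀ i < 10, g * z i = evG L (t.getD i []) * g)
    (h2 : ∀ i < 10, ∀ k ∈ t.getD i [], k < 10) : g ∈ normalizer (X : Set 𝒢) := by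
  rw [← cj_eq_iff]
  refine Subgroup.eq_of_le_of_card_ge ?_ (card_cj g X).ge
  rw [cj, X, MonoidHom.map_closure, closure_le]
  rintro _ ⟨_, ⟨i, hi, rfl⟩, rfl⟩
  have h3 : (MulAut.conj g).toMonoidHom (z i) = evG L (t.getD i []) := by
    show g * z i * g⁻¹ = _
    rw [h1 i hi, mul_inv_cancel_right]
  rw [h3]
  exact ev_mem (h2 i hi)

theorem U_norm : U ∈ normalizer (X : Set 𝒢) := mem_norm (t := tU) (fun _ hi => U_z hi) (by decide +kernel)
theorem f_norm : f ∈ normalizer (X : Set 𝒢) := mem_norm (t := tF) (fun _ hi => f_z hi) (by decide +kernel)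
theorem c0_norm : c 0 ∈ normalizer (X : Set 𝒢) := mem_norm (t := tA) (fun _ hi => c0_z hi) (by decide +kernel)
theorem c60_norm : c 60 ∈ normalizer (X : Set 𝒢) := mem_norm (t := tB) (fun _ hi => c60_z hi) (by decide +kernel)

theorem normalizer_ne_top {S : Subgroup 𝒢} (h1 : S ≠ ⊥) (h2 : S ≠ ⊤) : normalizer (S : Set 𝒢) ≠ ⊤ := by
  intro h
  have hn : S.Normal := normalizer_eq_top_iff.1 h
  rcases hn.eq_bot_or_eq_top with h3 | h3
  · exact h1 h3
  · exact h2 h3

theorem X_ne_bot : X ≠ ⊥ := by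
  intro h
  have h1 := z_mem (i := 0) (by norm_num)
  rw [h, mem_bot] at h1
  exact z0_ne h1

/-! ### standard position -/

/-- standard position -/
structure Good (x : ℕ) (S : Subgroup 𝒢) : Prop where
  u : U ∈ S
  f : f ∈ S
  c : c x ∈ S
  le : S ≤ normalizer (X : Set 𝒢)

theorem good_closure {x : ℕ} (hx : x = 0 ∨ x = 60) {m : ℕ} (hm : m % 31 ≠ 0) {d : 𝒢}
    (hd : d = c x ∨ d = (c x)⁻¹) : Good x (closure {U ^ m, f, d}) := by
  refine ⟨?_, subset_closure (by simp), ?_, ?_⟩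
  · obtain ⟨n, -, hn⟩ := inv_mod (m % 31) (Nat.mod_lt _ (by norm_num)) hm
    have h1 : U = (U ^ m) ^ n := by
      rw [← pow_mul, U_mod (b := 1) (by rw [Nat.mul_mod, ← hn, Nat.mod_mod]; simp [Nat.mul_mod]), pow_one]
    have h2 : (U ^ m) ^ n ∈ closure {U ^ m, f, d} := pow_mem (subset_closure (by simp)) n
    rw [← h1] at h2
    exact h2
  · rcases hd with rfl | rfl
    · exact subset_closure (by simp)
    · rw [← inv_inv (c x)]
      exact inv_mem (subset_closure (by simp))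
  · have hc : c x ∈ normalizer (X : Set 𝒢) := by
      rcases hx with rfl | rfl
      · exact c0_norm
      · exact c60_norm
    rw [closure_le]
    rintro y (rfl | rfl | rfl)
    · exact pow_mem U_norm m
    · exact f_norm
    · rcases hd with rfl | rfl
      · exact hc
      · exact inv_mem hc

theorem map_cl (g a b c : 𝒢) : cj g (closure {a, b, c}) = closure {g * a * g⁻¹, g * b * g⁻¹, g * c * g⁻¹} := by
  change (closure {a, b, c}).map (MulAut.conj g).toMonoidHom = _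
  rw [MonoidHom.map_closure]
  congr 1
  ext x
  simp [eq_comm, MulAut.conj_apply]

theorem good_one {m i : ℕ} (hm : m % 31 ≠ 0) (hi : i ∈ [0, 13, 60, 115, 143, 147, 196, 222]) :
    ∃ g : 𝒢, ∃ x, (x = 0 ∨ x = 60) ∧ Good x (cj g (closure {U ^ m, f, c i})) := by
  have key : ∀ x d, (x = 0 ∨ x = 60) → (d = c x ∨ d = (c x)⁻¹) →
      ∃ g : 𝒢, ∃ x, (x = 0 ∨ x = 60) ∧ Good x (cj g (closure {U ^ m, f, d})) := by
    intro x d hx hd
    refine ⟨1, x, hx, ?_⟩
    rw [cj_eq_iff.2 (one_mem _)]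
    exact good_closure hx hm hd
  have key2 : ∀ x d, (x = 0 ∨ x = 60) → (d = c x ∨ d = (c x)⁻¹) →
      ∃ g : 𝒢, ∃ x, (x = 0 ∨ x = 60) ∧ Good x (cj g (closure {U ^ m, f, j0 * d * j0})) := by
    intro x d hx hd
    refine ⟨j0, x, hx, ?_⟩
    rw [map_cl, j0_Up, j0_f']
    have h1 : j0 * (j0 * d * j0) * j0⁻¹ = d := by
      rw [j0_inv]
      calc j0 * (j0 * d * j0) * j0 = (j0 * j0) * d * (j0 * j0) := by group
        _ = d := by rw [j0_j0, one_mul, mul_one]
    rw [h1]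
    exact good_closure hx (by omega) hd
  simp only [List.mem_cons, List.not_mem_nil, or_false] at hi
  rcases hi with rfl | rfl | rfl | rfl | rfl | rfl | rfl | rfl
  · exact key 0 _ (Or.inl rfl) (Or.inl rfl)
  · exact key 60 _ (Or.inr rfl) (Or.inr c13_eq)
  · exact key 60 _ (Or.inr rfl) (Or.inl rfl)
  · rw [c115]; exact key2 0 _ (Or.inl rfl) (Or.inl rfl)
  · exact key 0 _ (Or.inl rfl) (Or.inr c143_eq)
  · rw [c147]; exact key2 0 _ (Or.inl rfl) (Or.inr c143_eq)
  · rw [c196]; exact key2 60 _ (Or.inr rfl) (Or.inr c13_eq)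
  · rw [c222]; exact key2 60 _ (Or.inr rfl) (Or.inl rfl)

theorem exists_good {S : Subgroup 𝒢} {F : Type} [Field F] [Fintype F] (hF : Fintype.card F = 2)
    (e : S ≃* Matrix.ProjectiveSpecialLinearGroup (Fin 5) F) :
    ∃ g : 𝒢, ∃ x, (x = 0 ∨ x = 60) ∧ Good x (cj g S) := by
  obtain ⟨a, b, d, h1, h2, -, -, h5, h6, h7, h8, h9, h10⟩ := L52Gens.exists_gens hF e
  have hS : S = closure {(a : 𝒢), (b : 𝒢), (d : 𝒢)} := by
    have h11 : (closure {a, b, d}).map S.subtype = S := by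
      rw [h10, ← MonoidHom.range_eq_map, Subgroup.range_subtype]
    rw [MonoidHom.map_closure] at h11
    refine h11.symm.trans ?_
    congr 1
    ext x
    simp [eq_comm]
  obtain ⟨g1, m, hm, hm0, hg1⟩ := step1 (a := (a : 𝒢)) (by rw [← coe_pow, h1, coe_one]) (by
    intro h
    apply h2
    exact Subtype.ext h)
  have h5' : (a : 𝒢) * b = b * (a : 𝒢) ^ 2 := congrArg Subtype.val h5
  have h6' : (d : 𝒢) ^ 3 = 1 := congrArg Subtype.val h6
  have h7' : (d : 𝒢) ≠ 1 := fun h => h7 (Subtype.ext h)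
  have h8' : (b : 𝒢) * d = d * b := congrArg Subtype.val h8
  have h9' : ((a : 𝒢) ^ 11 * d) ^ 4 = 1 := congrArg Subtype.val h9
  have hcm : ∀ g x y : 𝒢, g * (x * y) * g⁻¹ = (g * x * g⁻¹) * (g * y * g⁻¹) := fun g x y => by group
  obtain ⟨n, hn⟩ := step2 hm hm0 (b := g1 * b * g1⁻¹) (by
    rw [← hg1, ← hcm, h5', hcm, ← conj_pow])
  set g := U ^ n * g1 with hg
  have hgc : ∀ x : 𝒢, g * x * g⁻¹ = U ^ n * (g1 * x * g1⁻¹) * (U ^ n)⁻¹ := fun x => by rw [hg]; group
  have e1 : g * a * g⁻¹ = U ^ m := by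
    rw [hgc, hg1, ← pow_add, add_comm, pow_add, mul_inv_cancel_right]
  have e2 : g * b * g⁻¹ = f := by rw [hgc, hn]
  obtain ⟨i, hi, hci⟩ := ord3 (x := g * d * g⁻¹) (by rw [conj_pow, h6']; group)
    (by
      intro h
      apply h7'
      rw [mul_inv_eq_one] at h
      exact mul_left_cancel (h.trans (mul_one g).symm))
    (by rw [← e2, ← hcm, ← hcm, h8'])
  have h11 := step3 hm hm0 hi (by rw [← hci, ← e2, ← hcm, ← hcm, h8']) (by
    rw [← hci, ← e1, conj_pow, ← hcm, conj_pow, h9']; group)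
  obtain ⟨k, x, hx, hk⟩ := good_one (m := m) (by rw [Nat.mod_eq_of_lt hm]; exact hm0) h11
  refine ⟨k * g, x, hx, ?_⟩
  rw [← H860.JM.cj_cj, hS, map_cl, e1, e2, hci]
  exact hk

/-! ### maximal subgroups -/

theorem ne_bot {M S : Subgroup 𝒢} (hN : NL M S) : S ≠ ⊥ := by
  intro h
  apply hN.nab
  subst h
  exact ⟨⟨fun a b => Subsingleton.elim _ _⟩⟩

theorem ne_top {M S : Subgroup 𝒢} (hN : NL M S) : S ≠ ⊤ := by
  intro h
  exact hN.coatom.1 (top_le_iff.1 (h ▸ hN.le))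

theorem isCoatom_cj {M : Subgroup 𝒢} (hM : IsCoatom M) (g : 𝒢) : IsCoatom (cj g M) :=
  (OrderIso.isCoatom_iff (MulEquiv.mapSubgroup (MulAut.conj g)) M).2 hM

theorem NL_cj {M S : Subgroup 𝒢} (hN : NL M S) (g : 𝒢) : NL (cj g M) (cj g S) := by
  let e : S ≃* (cj g S : Subgroup 𝒢) := S.equivMapOfInjective (MulAut.conj g).toMonoidHom (MulAut.conj g).injective
  refine ⟨isCoatom_cj hN.coatom g, Subgroup.map_mono hN.le, ?_, ?_, ?_, ?_⟩
  · rw [normalizer_cj]
    exact Subgroup.map_mono hN.norm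
  · have := hN.simple
    exact e.symm.isSimpleGroup
  · intro h
    apply hN.nab
    refine ⟨⟨fun a b => e.injective ?_⟩⟩
    rw [map_mul, map_mul]
    exact h.1.1 _ _
  · rw [H860.JM.centralizer_cj, hN.cent]
    exact Subgroup.map_bot _

theorem j0_mem_norm : j0 ∈ normalizer (zpowers U : Set 𝒢) :=
  H858.NormC.mem_normalizer_zpowers (k := 30) (by
    have := j0_Up 1
    rwa [pow_one, mul_one] at this)

theorem f_mem_norm : f ∈ normalizer (zpowers U : Set 𝒢) :=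
  H858.NormC.mem_normalizer_zpowers (k := 16) (by
    have := f_Up 1
    rw [pow_one, mul_one] at this
    rw [this, mul_inv_cancel_right])

theorem f_ord : orderOf f = 5 := by
  rw [f_eq]
  exact orderOf_eq_prime H858.Elem.f_pow H858.Loc5.f_ne

theorem no_good {x : ℕ} (hx : x = 0 ∨ x = 60) {M S : Subgroup 𝒢} (hN : NL M S) (hG : Good x S) : False := by
  have hXS : ¬ X ≤ S := by
    intro hX
    have := hN.simple
    have h1 : (X.subgroupOf S).Normal := Subgroup.normal_subgroupOf_of_le_normalizer hG.le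
    rcases h1.eq_bot_or_eq_top with h | h
    · have h0 : z 0 ∈ X := z_mem (by norm_num)
      have h2 : (⟨z 0, hX h0⟩ : S) ∈ X.subgroupOf S := Subgroup.mem_subgroupOf.2 h0
      rw [h, mem_bot] at h2
      exact z0_ne (congrArg Subtype.val h2)
    · apply hN.nab
      have h2 : S ≤ X := Subgroup.subgroupOf_eq_top.1 h
      exact ⟨⟨fun a b => Subtype.ext (X_comm (h2 a.2) (h2 b.2))⟩⟩
  have hX_top : X ≠ ⊤ := by
    intro h
    apply hN.nab
    exact ⟨⟨fun a b => Subtype.ext (X_comm (by rw [h]; trivial) (by rw [h]; trivial))⟩⟩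
  have hMS : ¬ M ≤ S := by
    intro h
    have h1 : M ≤ normalizer (X : Set 𝒢) := h.trans hG.le
    have h2 : M = normalizer (X : Set 𝒢) := by
      by_contra h3
      exact normalizer_ne_top X_ne_bot hX_top (hN.coatom.2 _ (lt_of_le_of_ne h1 h3))
    exact hXS ((le_normalizer.trans h2.symm.le).trans h)
  obtain ⟨n, hnM, hnS⟩ := SetLike.not_le_iff_exists.1 hMS
  -- the Frattini argument
  have hu1 : n * U * n⁻¹ ∈ S := (mem_normalizer_iff.1 (hN.norm hnM) U).1 hG.u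
  let U' : S := ⟨U, hG.u⟩
  have hU' : Nat.card (zpowers U') = 31 := by
    rw [Nat.card_zpowers, ← orderOf_U, ← Subgroup.orderOf_coe]
  have hi : ¬ 31 ∣ (zpowers U').index :=
    Cfsg.Agent.H858.NormC.not_dvd_index hU' (fun h => (BigCent.sq_not_dvd (p := 31) (by simp))
      (h.trans (card_subgroup_dvd_card S)))
  obtain ⟨s, hs⟩ := SylEleven.exists_conj_mem (Cfsg.Agent.H858.NormC.isPGroup_of_card hU') hi
    (g := (⟨n * U * n⁻¹, hu1⟩ : S)) ⟨1, by
      ext
      rw [pow_one, coe_pow, conj_pow, U_pow]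
      simp⟩
  obtain ⟨m, hm⟩ := hs
  have hm3 : U ^ m = s * (n * U * n⁻¹) * (s : 𝒢)⁻¹ := congrArg Subtype.val hm
  have hsn : (s : 𝒢) * n ∈ normalizer (zpowers U : Set 𝒢) := by
    have h1 : (s : 𝒢) * n * U * ((s : 𝒢) * n)⁻¹ ∈ zpowers U := by
      refine ⟨m, ?_⟩
      show U ^ m = _
      rw [hm3]; group
    obtain ⟨k, -, hk⟩ := mem_zU h1
    exact H858.NormC.mem_normalizer_zpowers (k := k) hk.symm
  -- orders
  set K : Subgroup 𝒢 := normalizer (zpowers U : Set 𝒢) ⊓ M with hK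
  have hN310 : Nat.card (normalizer (zpowers U : Set 𝒢)) = 310 := (BigNum.data31 card_zU).2
  have hKN : Nat.card K ∣ 310 := hN310 ▸ Subgroup.card_dvd_of_le inf_le_left
  have hUK : U ∈ K ⊓ S := ⟨⟨le_normalizer (mem_zpowers U), hN.le hG.u⟩, hG.u⟩
  have hfK : f ∈ K ⊓ S := ⟨⟨f_mem_norm, hN.le hG.f⟩, hG.f⟩
  have h31 : 31 ∣ Nat.card (K ⊓ S : Subgroup 𝒢) := orderOf_U ▸ H858.NormC.orderOf_dvd_of_mem hUK
  have h5 : 5 ∣ Nat.card (K ⊓ S : Subgroup 𝒢) := f_ord ▸ H858.NormC.orderOf_dvd_of_mem hfK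
  have h155 : 155 ∣ Nat.card (K ⊓ S : Subgroup 𝒢) := Nat.Coprime.mul_dvd_of_dvd_of_dvd (by norm_num) h31 h5
  have hdv : Nat.card (K ⊓ S : Subgroup 𝒢) ∣ Nat.card K := Subgroup.card_dvd_of_le inf_le_left
  have hne : Nat.card (K ⊓ S : Subgroup 𝒢) ≠ Nat.card K := by
    intro h
    have h1 : K ⊓ S = K := Subgroup.eq_of_le_of_card_ge inf_le_left h.ge
    have h2 : (s : 𝒢) * n ∈ K := ⟨hsn, M.mul_mem (hN.le s.2) hnM⟩
    rw [← h1] at h2
    apply hnS
    have h3 := S.mul_mem (S.inv_mem s.2) h2.2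
    rwa [inv_mul_cancel_left] at h3
  have hK310 : Nat.card K = 310 := by
    obtain ⟨a', ha'⟩ := h155
    obtain ⟨b', hb'⟩ := hdv
    obtain ⟨d', hd'⟩ := hKN
    rw [ha'] at hb' hne
    have h1 : a' * (b' * d') = 2 := by
      have h2 : 155 * (a' * (b' * d')) = 155 * 2 := by rw [hb'] at hd'; rw [show 155 * 2 = 310 from rfl, hd']; ring
      exact Nat.eq_of_mul_eq_mul_left (by norm_num) h2
    have hb1 : b' ≠ 1 := by
      rintro rfl
      apply hne
      rw [hb', mul_one]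
    have hb2 : b' ∣ 2 := ⟨a' * d', by rw [← h1]; ring⟩
    have hb3 : b' = 2 := ((Nat.dvd_prime Nat.prime_two).1 hb2).resolve_left hb1
    subst hb3
    have h3 : a' * d' = 1 := by nlinarith
    have h4 : a' = 1 := Nat.eq_one_of_mul_eq_one_right h3
    rw [hb', h4]
  have hKeq : K = normalizer (zpowers U : Set 𝒢) :=
    Subgroup.eq_of_le_of_card_ge inf_le_left (by rw [hK310, hN310])
  have hj : j0 ∈ M := by
    have h1 := j0_mem_norm
    rw [← hKeq] at h1
    exact h1.2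
  have hd : j0 * c x * j0⁻¹ ∈ S := (mem_normalizer_iff.1 (hN.norm hj) _).1 hG.c
  have hd2 := hG.le hd
  have h1 : j0 * c x * j0⁻¹ * z 0 * (j0 * c x * j0⁻¹)⁻¹ ∈ X := (mem_normalizer_iff.1 hd2 _).1 (z_mem (by norm_num))
  have h2 := X_comm h1 (z_mem (i := 0) (by norm_num))
  rcases hx with rfl | rfl
  · apply nc0
    have h3 : (j0 * c 0 * j0⁻¹)⁻¹ = j0 * c 143 * j0 := by rw [c143_eq, mul_inv_rev, mul_inv_rev, inv_inv, j0_inv, mul_assoc]
    rw [h3, j0_inv] at h2
    exact h2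
  · apply nc60
    have h3 : (j0 * c 60 * j0⁻¹)⁻¹ = j0 * c 13 * j0 := by rw [c13_eq, mul_inv_rev, mul_inv_rev, inv_inv, j0_inv, mul_assoc]
    rw [h3, j0_inv] at h2
    exact h2

/-- **S5580, Part III, `L₅(2)`**: no maximal subgroup of `J4` has socle `L₅(2)` -/
theorem excl_L52 {F : Type} [Field F] [Fintype F] (hF : Fintype.card F = 2) :
    Excl (Matrix.ProjectiveSpecialLinearGroup (Fin 5) F) := by
  rintro M S hN ⟨e⟩
  obtain ⟨g, x, hx, hg⟩ := exists_good hF e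
  exact no_good hx (NL_cj hN g) hg

end Cfsg.Agent.H382.JM.L52
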