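import Cfsg.Agent.H858.Data

/-!
# S5580, row `L₅(2)`: words and kernel computation in `J4` (helper382)

The program `slp` (continuing the environment `LX` of `H858.Data`) computes an element `U` of order 31 normalised by the
element `f` of order 5, the involution `j0` inverting `U` and commuting with `f`, the 224 elements of order 3 commuting with
`f`, and a basis of an elementary abelian group `X` of order 1024 normalised by `U` and `f`.
-/

set_option autoImplicit false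

open Cfsg

namespace Cfsg.Agent.H382.JM.L52Data

open Cfsg.Agent.Lib Cfsg.Agent.Lib.F2MatGroup
open Cfsg.Agent.J4.Rep112 Cfsg.Agent.J4.LowerData Cfsg.Agent.J4.Lower
open Cfsg.Agent.H858.VK Cfsg.Agent.H858.Data

/-- the program -/
def slp : List (List ℕ) := [[27, 26, 26, 26, 29, 28],
  [1, 1, 1, 10, 10, 10],
  [29, 31, 28, 28, 28, 30],
  [1, 0, 1, 2],
  [0, 0],
  [0, 0],
  [0, 0],
  [0, 0],
  [7, 0],
  [18, 18, 18, 18, 18, 18],
  [10, 10, 10, 10, 10, 10, 10],
  [1, 1, 1, 0, 0, 0],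
  [9, 0, 11, 0],
  [0, 0],
  [0, 0],
  [0, 0],
  [0, 0],
  [0, 14],
  [45, 46, 46, 44, 46, 47],
  [48, 46, 45, 46, 46, 47],
  [1, 8, 0, 8],
  [0, 0],
  [0, 3],
  [49, 50, 50, 52, 50],
  [52, 53, 52, 52, 50],
  [23, 0, 23, 1],
  [0, 0],
  [0, 0],
  [2, 0],
  [1, 1],
  [0, 0],
  [2, 0],
  [8, 0],
  [59, 60, 59, 61, 62],
  [63, 61, 60, 62, 60],
  [33, 0, 33, 1],
  [2, 0],
  [35, 18, 35, 17],
  [0, 0],
  [19, 0],
  [31, 22, 31, 17, 7, 3, 0, 7, 17],
  [16, 29, 17, 29],
  [0, 0],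
  [0, 0],
  [0, 0],
  [0, 0],
  [2, 4],
  [1, 0],
  [0, 23],
  [14, 37, 15, 37],
  [0, 15],
  [28, 42, 2, 14, 42, 0, 11, 33, 0],
  [80, 81],
  [80, 79],
  [0, 82],
  [0, 81],
  [82, 84],
  [84, 0],
  [84, 0],
  [3, 87, 0],
  [82, 77],
  [90, 0, 90],
  [52, 0, 71],
  [7, 90, 4],
  [4, 1, 0],
  [8, 91],
  [0, 93],
  [0, 93],
  [0, 96],
  [95, 15],
  [98, 0],
  [97, 0],
  [99, 0],
  [4, 99, 0],
  [0, 13, 0],
  [10, 0, 14],
  [105, 103],
  [24, 1, 0],
  [66, 0],
  [0, 0],
  [0, 27],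
  [40, 29, 0],
  [18, 91, 100, 111],
  [100, 105],
  [10, 0, 10],
  [114, 1, 114],
  [76, 0, 95],
  [27, 0, 23],
  [4, 3, 0],
  [36, 0, 12],
  [0, 88],
  [0, 0],
  [15, 0],
  [56, 84, 70, 56, 75, 42, 60, 75, 53],
  [54, 45, 71, 43, 45, 54, 76, 85, 76],
  [2, 1, 0],
  [14, 13, 0],
  [106, 106, 106, 106, 106, 106],
  [98, 98, 98, 98, 98, 98, 98],
  [99, 108, 108, 108, 99, 108, 108, 99, 108],
  [100, 109, 109, 100, 109, 100, 109, 100, 109, 109],
  [110, 0, 3],
  [102, 1, 3],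
  [112, 1, 5],
  [104, 2, 5],
  [114, 2, 7],
  [106, 3, 7],
  [116, 3, 9],
  [108, 4, 9],
  [118, 4, 11],
  [110, 5, 11],
  [120, 5, 13],
  [112, 6, 13],
  [122, 6, 15],
  [114, 7, 15],
  [124, 7, 17],
  [116, 8, 17],
  [126, 8, 19],
  [118, 9, 19],
  [128, 9, 21],
  [120, 10, 21],
  [130, 10, 23],
  [122, 11, 23],
  [132, 11, 25],
  [124, 12, 25],
  [125, 12, 26],
  [135, 12, 28],
  [127, 13, 28],
  [137, 13, 30],
  [129, 14, 30],
  [139, 14, 32],
  [140, 14, 33],
  [132, 15, 33],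
  [142, 15, 35],
  [134, 16, 35],
  [144, 16, 37],
  [136, 17, 37],
  [146, 17, 39],
  [138, 18, 39],
  [139, 18, 40],
  [140, 18, 41],
  [150, 18, 43],
  [142, 19, 43],
  [152, 19, 45],
  [144, 20, 45],
  [154, 20, 47],
  [146, 21, 47],
  [156, 21, 49],
  [148, 22, 49],
  [158, 22, 51],
  [150, 23, 51],
  [160, 23, 53],
  [152, 24, 53],
  [162, 24, 55],
  [154, 25, 55],
  [164, 25, 57],
  [156, 26, 57],
  [166, 26, 59],
  [158, 26, 59],
  [168, 26, 61],
  [160, 27, 61],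
  [170, 27, 63],
  [162, 28, 63],
  [172, 27, 65],
  [164, 28, 65],
  [174, 28, 67],
  [175, 28, 68],
  [167, 29, 68],
  [177, 29, 70],
  [169, 30, 70],
  [179, 30, 72],
  [171, 31, 72],
  [172, 31, 73],
  [182, 31, 75],
  [174, 32, 75],
  [184, 32, 77],
  [185, 32, 78],
  [186, 32, 79],
  [178, 33, 79],
  [188, 33, 81],
  [189, 33, 82],
  [181, 34, 82],
  [191, 34, 84],
  [192, 34, 85],
  [184, 35, 85],
  [185, 35, 86],
  [195, 35, 88],
  [187, 36, 88],
  [197, 36, 90],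
  [189, 37, 90],
  [199, 37, 92],
  [191, 38, 92],
  [192, 38, 93],
  [202, 38, 95],
  [194, 39, 95],
  [204, 39, 97],
  [196, 40, 97],
  [206, 40, 99],
  [198, 41, 99],
  [199, 41, 100],
  [209, 41, 102],
  [201, 42, 102],
  [211, 41, 104],
  [203, 42, 104],
  [213, 42, 106],
  [205, 43, 106],
  [215, 43, 108],
  [216, 43, 109],
  [208, 44, 109],
  [218, 44, 111],
  [210, 45, 111],
  [220, 45, 113],
  [212, 46, 113],
  [222, 46, 115],
  [214, 47, 115],
  [224, 47, 117],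
  [225, 47, 118],
  [217, 48, 118],
  [227, 48, 120],
  [219, 49, 120],
  [229, 49, 122],
  [221, 50, 122],
  [231, 50, 124],
  [223, 50, 124],
  [224, 50, 125],
  [234, 50, 127],
  [226, 51, 127],
  [236, 51, 129],
  [228, 52, 129],
  [238, 52, 131],
  [230, 53, 131],
  [231, 53, 132],
  [232, 53, 133],
  [233, 53, 134],
  [234, 53, 135],
  [244, 53, 137],
  [236, 54, 137],
  [246, 53, 139],
  [247, 52, 140],
  [239, 52, 140],
  [249, 52, 142],
  [241, 53, 142],
  [251, 53, 144],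
  [243, 54, 144],
  [253, 53, 146],
  [245, 54, 146],
  [246, 54, 147],
  [256, 54, 149],
  [257, 54, 150],
  [249, 55, 150],
  [259, 55, 152],
  [251, 56, 152],
  [261, 54, 154],
  [253, 55, 154],
  [263, 55, 156],
  [255, 56, 156],
  [265, 56, 158],
  [257, 57, 158],
  [258, 57, 159],
  [259, 56, 160],
  [269, 54, 162],
  [261, 55, 162],
  [271, 55, 164],
  [263, 56, 164],
  [273, 56, 166],
  [265, 57, 166],
  [275, 56, 168],
  [276, 56, 169],
  [268, 57, 169],
  [269, 57, 170],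
  [270, 57, 171],
  [280, 57, 173],
  [272, 58, 173],
  [282, 57, 175],
  [283, 56, 176],
  [284, 56, 177],
  [285, 56, 178],
  [277, 57, 178],
  [287, 56, 180],
  [288, 56, 181],
  [280, 57, 181],
  [290, 57, 183],
  [291, 56, 184],
  [283, 57, 184],
  [284, 57, 185],
  [294, 57, 187],
  [295, 54, 188],
  [287, 55, 188],
  [297, 55, 190],
  [298, 55, 191],
  [299, 51, 192],
  [291, 51, 192],
  [292, 50, 193],
  [293, 50, 194],
  [303, 50, 196],
  [304, 50, 197],
  [305, 50, 198],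
  [297, 50, 198],
  [298, 50, 199],
  [308, 50, 201],
  [309, 49, 202],
  [310, 47, 203],
  [302, 48, 203],
  [312, 46, 205],
  [304, 47, 205],
  [305, 47, 206],
  [315, 47, 208],
  [307, 47, 208],
  [317, 47, 210],
  [309, 46, 210],
  [319, 46, 212],
  [311, 47, 212],
  [312, 47, 213],
  [313, 45, 214],
  [323, 43, 216],
  [324, 36, 217],
  [325, 34, 218],
  [317, 34, 218],
  [327, 33, 220],
  [319, 29, 220],
  [320, 27, 221],
  [321, 27, 222],
  [322, 23, 223],
  [332, 20, 225],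
  [227, 227],
  [0, 228],
  [0, 1],
  [0, 2],
  [0, 2, 231],
  [0, 3, 232],
  [0, 0],
  [340, 331, 331, 340, 331, 340, 340, 340],
  [235, 0, 1],
  [236, 0, 2],
  [237, 0, 3],
  [238, 0, 4],
  [345, 336, 336, 345, 336, 336, 336, 336, 336, 336],
  [240, 0, 6],
  [241, 0, 7],
  [242, 0, 8],
  [243, 0, 9]]

/-- index of the `i`-th element of order 3 -/
def ic (i : ℕ) : ℕ := 240 - i
/-- index of the `i`-th element of `X` -/
def iz (i : ℕ) : ℕ := 9 - i
/-- indices of `U, U^3, U^5, U^7, U^11, U^15` -/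
def iu (r : ℕ) : ℕ := [244, 15, 14, 13, 12, 11].getD r 0
/-- the exponents -/
def er (r : ℕ) : ℕ := [1, 3, 5, 7, 11, 15].getD r 0

/-- conjugation by `s` -/
def ps : List ℕ := [1, 3, 5, 7, 9, 11, 13, 15, 17, 19, 21, 23, 18, 26, 28, 30, 31, 33, 35, 37, 10, 27, 41, 43, 45, 47, 49, 51, 53, 55, 57, 48, 59, 61, 60, 63, 65, 66, 68, 70, 56, 73, 75, 76, 77, 79, 80, 82, 83, 39, 86, 88, 90, 42, 93, 95, 97, 0, 100, 69, 102, 104, 106, 107, 109, 111, 113, 115, 116, 118, 120, 122, 58, 74, 125, 127, 129, 78, 89, 119, 32, 135, 94, 137, 136, 138, 52, 140, 142, 133, 144, 64, 147, 148, 150, 103, 44, 152, 154, 156, 91, 139, 40, 114, 146, 160, 162, 164, 163, 166, 167, 54, 29, 171, 155, 173, 108, 174, 175, 176, 6, 178, 179, 181, 16, 182, 84, 185, 132, 2, 170, 186, 188, 189, 123, 62, 71, 141, 190, 153, 92, 124, 20, 194, 195, 196, 169, 110, 199, 101, 200, 130, 34, 201, 192, 112, 203, 121, 206, 99, 208, 25, 202, 210, 187, 87, 72, 165, 134, 8, 214, 4, 126, 184,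 157, 46, 193, 143, 215, 172, 22, 216, 180, 213, 218, 14, 168, 12, 212, 96, 204, 50, 128, 219, 211, 191, 149, 183, 85, 36, 161, 145, 223, 158, 209, 159, 205, 217, 151, 221, 220, 197, 98, 177, 105, 222, 131, 67, 207, 24, 38, 198, 117, 81]
/-- conjugation by `j` -/
def pj : List ℕ := [2, 4, 6, 8, 10, 12, 14, 16, 18, 20, 22, 24, 25, 27, 29, 1, 32, 34, 36, 38, 39, 40, 42, 44, 46, 48, 50, 52, 54, 56, 53, 58, 60, 62, 9, 64, 3, 67, 69, 71, 72, 74, 51, 7, 78, 70, 81, 13, 84, 85, 87, 89, 91, 92, 94, 96, 98, 99, 101, 61, 103, 105, 80, 108, 110, 112, 114, 23, 117, 119, 121, 88, 123, 124, 126, 128, 130, 131, 132, 133, 134, 136, 11, 95, 118, 83, 139, 141, 143, 15, 145, 146, 104, 149, 151, 49, 66, 153, 155, 157, 158, 120, 159, 156, 41, 161, 163, 165, 115, 137, 168, 169, 170, 172, 125, 166, 35, 154, 100, 177, 148, 63, 180, 21, 135, 183, 184, 93, 175, 106, 26, 187, 167, 140, 188, 65, 90, 73, 174, 191, 178, 192, 193, 17, 33, 82, 197, 198, 162, 122, 190,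 57, 116, 202, 189, 0, 204, 205, 5, 207, 97, 164, 209, 211, 212, 127, 196, 213, 138, 176, 109, 68, 200, 31, 152, 206, 102, 86, 79, 111, 214, 77, 217, 194, 30, 55, 47, 210, 150, 219, 144, 19, 220, 221, 185, 113, 45, 186, 222, 147, 195, 208, 199, 215, 43, 28, 75, 216, 182, 173, 142, 129, 203, 37, 107, 59, 179, 201, 171, 223, 76, 181, 160, 218]

/-- conjugates of the basis of `X` -/
def tU : List (List ℕ) := [[8],
  [7],
  [6],
  [5],
  [9, 7],
  [3],
  [2],
  [1],
  [0],
  [4, 3, 1, 0]]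
/-- conjugates of the basis of `X` -/
def tF : List (List ℕ) := [[9],
  [9, 8, 6, 5],
  [8],
  [9, 8, 5],
  [7],
  [4],
  [1, 0],
  [3],
  [4, 3, 1],
  [2]]
/-- conjugates of the basis of `X` -/
def tA : List (List ℕ) := [[4],
  [9, 7, 6, 5, 4, 0],
  [8, 7, 5, 3, 2, 1],
  [5, 2, 1],
  [9, 6, 5, 4, 1, 0],
  [9, 4],
  [8, 6, 4],
  [8, 7, 6, 4],
  [8, 7, 5],
  [8, 7, 6, 5, 4]]
/-- conjugates of the basis of `X` -/
def tB : List (List ℕ) := [[4],
  [9, 7, 6, 5, 4, 0],
  [8, 7, 5, 3, 2, 1],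
  [5, 2, 1],
  [9, 6, 5, 4, 1, 0],
  [9, 4],
  [8, 6, 4],
  [8, 7, 6, 4],
  [8, 7, 5],
  [8, 7, 6, 5, 4]]

/-- relations for the conjugates of `X` -/
def rX (g : ℕ) (t : List (List ℕ)) : List (List ℕ × List ℕ) :=
  (List.range 10).map fun i => ([g, iz i], t.getD i [] ++ [g])

/-- the relations -/
def rel0 : List (List ℕ × List ℕ) := [
  ([11, 11, 244], []),
  ([244, 344], [344, 244, 244]),
  ([241, 241], []),
  ([241, 244, 241, 244], []),
  ([241, 344], [344, 241]),
  ([ic 0, 344], [344, ic 0]),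
  ([ic 0, ic 0, ic 0], []),
  ([ic 143, ic 0], []),
  ([ic 13, ic 60], []),
  ([ic 115], [241, ic 0, 241]),
  ([ic 147], [241, ic 143, 241]),
  ([ic 222], [241, ic 60, 241]),
  ([ic 196], [241, ic 13, 241])]

/-- the powers of `U` -/
def relU : List (List ℕ × List ℕ) := (List.range 6).map fun r => ([iu r], List.replicate (er r) 244)

/-- the conjugates by `s` -/
def relS : List (List ℕ × List ℕ) := (List.range 224).map fun i => ([350, ic i], [ic (ps.getD i 0), 350])

/-- the conjugates by `j` -/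
def relJ : List (List ℕ × List ℕ) := (List.range 224).map fun i => ([341, ic i], [ic (pj.getD i 0), 341])

/-- commuting elements -/
def relZ : List (List ℕ × List ℕ) :=
  (List.range 10).flatMap fun i => (List.range 10).map fun k => ([iz i, iz k], [iz k, iz i])

/-- the relations, first part -/
def rels1 : List (List ℕ × List ℕ) := rel0 ++ (relU ++ relS)

/-- the relations, second part -/
def rels2 : List (List ℕ × List ℕ) := relJ ++ (rX 244 tU ++ (rX 344 tF ++ (rX (ic 0) tA ++ (rX (ic 60) tB ++ relZ))))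

/-- the non-relations -/
def nrels : List (List ℕ × List ℕ) := [
  ([244], []), ([iz 0], []), ([ic 0], []),
  ([241, ic 0, 241, iz 0, 241, ic 143, 241, iz 0], [iz 0, 241, ic 0, 241, iz 0, 241, ic 143, 241]),
  ([241, ic 60, 241, iz 0, 241, ic 13, 241, iz 0], [iz 0, 241, ic 60, 241, iz 0, 241, ic 13, 241])]

/-- the exceptional pairs -/
def exc : List (ℕ × ℕ) := [(0, 1), (13, 3), (60, 1), (115, 3), (143, 3), (147, 1), (196, 1), (222, 3)]

/-- the test vector -/
def v0 : ℕ := 1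

/-- the image of the test vector under the fourth power of the product -/
def V8 (A C : ℕ) : ℕ :=
  F2Mat.force (F2Mat.vmul 112 v0 A) fun v => F2Mat.force (F2Mat.vmul 112 v C) fun v =>
  F2Mat.force (F2Mat.vmul 112 v A) fun v => F2Mat.force (F2Mat.vmul 112 v C) fun v =>
  F2Mat.force (F2Mat.vmul 112 v A) fun v => F2Mat.force (F2Mat.vmul 112 v C) fun v =>
  F2Mat.force (F2Mat.vmul 112 v A) fun v => F2Mat.vmul 112 v C

/-- the tests for two of the powers of `U` -/
def vchk (r0 : ℕ) (L : List ℕ) : Bool := (List.range 224).all fun i => F2Mat.force (get (F2Mat.one 112) L (ic i)) fun C =>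
  (List.range 2).all fun r => (exc.contains (i, r0 + r)) || F2Mat.force (get (F2Mat.one 112) L (iu (r0 + r))) fun A =>
    !(Nat.beq (V8 A C) v0)

set_option Elab.async false

theorem check1 : run 112 (slpQ ++ (slpX ++ slp)) codes (fun L => eqs 112 rels1 L) = true := by decide +kernel

theorem check2 : run 112 (slpQ ++ (slpX ++ slp)) codes (fun L => eqs 112 rels2 L) = true := by decide +kernel

theorem check3 : run 112 (slpQ ++ (slpX ++ slp)) codes (fun L => neqs 112 nrels L) = true := by decide +kernel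

theorem check4 : run 112 (slpQ ++ (slpX ++ slp)) codes (fun L => vchk 0 L) = true := by decide +kernel

theorem check5 : run 112 (slpQ ++ (slpX ++ slp)) codes (fun L => vchk 2 L) = true := by decide +kernel

theorem check6 : run 112 (slpQ ++ (slpX ++ slp)) codes (fun L => vchk 4 L) = true := by decide +kernel

end Cfsg.Agent.H382.JM.L52Data
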